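import Groth.Prelude.Def_Pi1
import Groth.Agent.S0516
import Groth.Agent.H23.RatExtend
import Groth.Agent.S0537
import Groth.Agent.S0538
import Groth.Agent.S0539
import Mathlib.AlgebraicGeometry.Morphisms.Etale
import Mathlib.AlgebraicGeometry.Morphisms.UniversallyOpen
import Mathlib.FieldTheory.IsSepClosed

set_option autoImplicit false
set_option backward.isDefEq.respectTransparency false
set_option backward.isDefEq.respectTransparency.types false
universe u

open CategoryTheory CategoryTheory.Limits AlgebraicGeometry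

namespace Groth.Agent.ConnInf

/-- A finite étale algebra over a strictly henselian ring has a section through any prime over the closed point. -/
theorem exists_retraction (R C : Type u) [CommRing R] [HenselianLocalRing R]
    [IsSepClosed (IsLocalRing.ResidueField R)] [CommRing C] [Algebra R C] [Module.Finite R C] [Algebra.Etale R C]
    (p : PrimeSpectrum C) (hp : p.asIdeal.comap (algebraMap R C) = IsLocalRing.maximalIdeal R) :
    ∃ s : C →ₐ[R] R, PrimeSpectrum.comap s.toRingHom (IsLocalRing.closedPoint R) = p := by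
  classical
  obtain ⟨ι, _, A, _, _, B, _, _, hsurj, hB, ⟨e⟩⟩ := Groth.Agent.S0516.result R C
  let q : Ideal ((∀ i, A i) × B) := p.asIdeal.comap e.symm.toRingEquiv.toRingHom
  haveI : q.IsPrime := Ideal.IsPrime.comap _
  have hq : q.comap (algebraMap R ((∀ i, A i) × B)) = IsLocalRing.maximalIdeal R := by
    rw [← hp, Ideal.comap_comap]
    congr 1
    ext r
    exact e.symm.commutes r
  rcases (Ideal.ideal_prod_prime q).1 inferInstance with ⟨p₁, hp₁, hq'⟩ | ⟨p₂, hp₂, hq'⟩
  · obtain ⟨i, p', hp'⟩ := PrimeSpectrum.exists_comap_evalRingHom_eq (⟨p₁, hp₁⟩ : PrimeSpectrum (∀ i, A i))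
    have hp'' : p₁ = p'.asIdeal.comap (Pi.evalRingHom A i) := (congrArg PrimeSpectrum.asIdeal hp').symm
    let π : C →ₐ[R] A i :=
      ((Pi.evalAlgHom R A i).comp (AlgHom.fst R (∀ i, A i) B)).comp e.toAlgHom
    let incl : A i →ₗ[R] C := e.symm.toLinearMap ∘ₗ LinearMap.inl R (∀ i, A i) B ∘ₗ LinearMap.single R A i
    have hincl : π.toLinearMap ∘ₗ incl = LinearMap.id := by
      ext a
      simp [π, incl]
    haveI : Module.Flat R (A i) := Module.Flat.of_retract incl π.toLinearMap hincl
    haveI : Module.Finite R (A i) := Module.Finite.of_surjective (Algebra.linearMap R (A i)) (hsurj i)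
    haveI : Module.Free R (A i) := Module.free_of_flat_of_isLocalRing
    haveI : Nontrivial (A i) := ⟨⟨0, 1, fun h => p'.isPrime.ne_top ((Ideal.eq_top_iff_one _).2 (h ▸ p'.asIdeal.zero_mem))⟩⟩
    have hbij : Function.Bijective (algebraMap R (A i)) := ⟨FaithfulSMul.algebraMap_injective R (A i), hsurj i⟩
    let eA : R ≃ₐ[R] A i := AlgEquiv.ofBijective (Algebra.ofId R (A i)) hbij
    refine ⟨eA.symm.toAlgHom.comp π, ?_⟩
    have hloc : ∀ r : R, algebraMap R (A i) r ∈ p'.asIdeal ↔ r ∈ IsLocalRing.maximalIdeal R := fun r => by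
      rw [← hq, Ideal.mem_comap, hq', hp'']
      show _ ↔ algebraMap R ((∀ i, A i) × B) r ∈ Ideal.prod (p'.asIdeal.comap (Pi.evalRingHom A i)) ⊤
      simp [Ideal.mem_prod]
    refine PrimeSpectrum.ext ?_
    ext c
    show eA.symm (π c) ∈ IsLocalRing.maximalIdeal R ↔ c ∈ p.asIdeal
    rw [← hloc, show algebraMap R (A i) (eA.symm (π c)) = π c from eA.apply_symm_apply _,
      show c ∈ p.asIdeal ↔ e c ∈ q by simp [q], hq', hp'']
    show _ ↔ e c ∈ Ideal.prod (p'.asIdeal.comap (Pi.evalRingHom A i)) ⊤
    simp [Ideal.mem_prod, π]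
  · exfalso
    refine hp₂.ne_top (top_le_iff.1 (hB ▸ Ideal.map_le_iff_le_comap.2 fun r hr => ?_))
    rw [← hq, Ideal.mem_comap, hq'] at hr
    exact ((Ideal.mem_prod (I := ⊤) (J := p₂)).1 hr).2

/-- Connectedness at infinity passes to finite étale covers. -/
theorem isPreconnected_punctured {W X : Scheme.{u}} (g : W ⟶ X) [IsFinite g] [Etale g] (w : W)
    (hsh : ∀ (R : Type u) [CommRing R] [IsLocalRing R] [Algebra (X.presheaf.stalk (g w)) R]
      [IsLocalHom (algebraMap (X.presheaf.stalk (g w)) R)] [Hensel.IsStrictHenselization (X.presheaf.stalk (g w)) R],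
      ConnectedSpace (FEt.puncturedSpec R : Scheme.{u})) :
    _root_.IsPreconnected {z | z ⤳ w ∧ z ≠ w} := by
  let O := X.presheaf.stalk (g w)
  obtain ⟨R, _, _, _, _, hR⟩ := Groth.Agent.S0537.result O
  haveI := hR
  haveI : HenselianLocalRing R := Hensel.IsStrictHenselization.henselian O
  haveI : IsSepClosed (IsLocalRing.ResidueField R) :=
    haveI := Hensel.IsStrictHenselization.isSepClosure (R := O) (S := R)
    IsSepClosure.sep_closed (IsLocalRing.ResidueField O)
  haveI := hsh R
  haveI : Module.FaithfullyFlat O R := Groth.Agent.S0539.result O R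
  let φ : Spec (CommRingCat.of R) ⟶ Spec O := Spec.map (CommRingCat.ofHom (algebraMap O R))
  haveI : Flat φ := by
    rw [Flat.SpecMap_iff, CommRingCat.hom_ofHom, RingHom.flat_algebraMap_iff]
    infer_instance
  haveI : Flat (X.fromSpecStalk (g w)) := H23.RatExtend.flat_fromSpecStalk X (g w)
  let h : Spec (CommRingCat.of R) ⟶ X := φ ≫ X.fromSpecStalk (g w)
  have hcl : h (IsLocalRing.closedPoint R) = g w := by
    show X.fromSpecStalk (g w) (φ (IsLocalRing.closedPoint R)) = g w
    rw [show φ (IsLocalRing.closedPoint R) = IsLocalRing.closedPoint O from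
      IsLocalRing.comap_closedPoint (algebraMap O R)]
    exact Scheme.fromSpecStalk_closedPoint
  -- the section through `w`
  obtain ⟨z, hz1, hz2⟩ := Scheme.Pullback.exists_preimage_pullback (f := g) (g := h) w (IsLocalRing.closedPoint R) hcl.symm
  haveI : IsFinite (pullback.snd g h) := MorphismProperty.pullback_snd g h inferInstance
  haveI : Etale (pullback.snd g h) := MorphismProperty.pullback_snd g h inferInstance
  haveI : IsAffine (pullback g h) := isAffine_of_isAffineHom (pullback.snd g h)
  let P := pullback g h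
  let f : CommRingCat.of R ⟶ Γ(P, ⊤) := Spec.preimage (P.isoSpec.inv ≫ pullback.snd g h)
  letI : Algebra R Γ(P, ⊤) := f.hom.toAlgebra
  have hf : Spec.map (CommRingCat.ofHom (algebraMap R Γ(P, ⊤))) = P.isoSpec.inv ≫ pullback.snd g h :=
    Spec.map_preimage _
  have h1 : IsFinite (Spec.map (CommRingCat.ofHom (algebraMap R Γ(P, ⊤)))) := by rw [hf]; infer_instance
  have h2 : Etale (Spec.map (CommRingCat.ofHom (algebraMap R Γ(P, ⊤)))) := by rw [hf]; infer_instance
  rw [IsFinite.SpecMap_iff, CommRingCat.hom_ofHom, RingHom.finite_algebraMap] at h1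
  rw [HasRingHomProperty.Spec_iff (P := @Etale), CommRingCat.hom_ofHom, RingHom.etale_algebraMap] at h2
  obtain ⟨s, hs⟩ := exists_retraction R Γ(P, ⊤) (P.isoSpec.hom z) (by
    have := congrArg PrimeSpectrum.asIdeal (show Spec.map (CommRingCat.ofHom (algebraMap R Γ(P, ⊤))) (P.isoSpec.hom z) =
      IsLocalRing.closedPoint R by
        rw [hf]
        show (P.isoSpec.hom ≫ P.isoSpec.inv ≫ pullback.snd g h) z = _
        rw [Iso.hom_inv_id_assoc]
        exact hz2)
    exact this)
  let σ : Spec (CommRingCat.of R) ⟶ P := Spec.map (CommRingCat.ofHom s.toRingHom) ≫ P.isoSpec.inv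
  have hσ : σ ≫ pullback.snd g h = 𝟙 _ := by
    rw [Category.assoc, ← hf, ← Spec.map_comp, ← Spec.map_id]
    congr 1
    ext r
    exact s.commutes r
  have hσcl : σ (IsLocalRing.closedPoint R) = z := by
    show P.isoSpec.inv (Spec.map (CommRingCat.ofHom s.toRingHom) (IsLocalRing.closedPoint R)) = z
    rw [show Spec.map (CommRingCat.ofHom s.toRingHom) (IsLocalRing.closedPoint R) = P.isoSpec.hom z from hs,
      ← Scheme.Hom.comp_apply, Iso.hom_inv_id]
    rfl
  haveI : Etale (σ ≫ pullback.snd g h) := by rw [hσ]; infer_instance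
  haveI : Etale σ := Etale.of_comp σ (pullback.snd g h)
  haveI : Flat h := inferInstance
  haveI : Flat (pullback.fst g h) := MorphismProperty.pullback_fst g h inferInstance
  let t : Spec (CommRingCat.of R) ⟶ W := σ ≫ pullback.fst g h
  have htcl : t (IsLocalRing.closedPoint R) = w := by
    show pullback.fst g h (σ (IsLocalRing.closedPoint R)) = w
    rw [hσcl, hz1]
  have hne : ∀ P' : PrimeSpectrum R, P' ≠ IsLocalRing.closedPoint R → t P' ≠ w := fun P' hP' e => by
    apply hP'
    have hh : h P' = g w := by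
      rw [← e, ← Scheme.Hom.comp_apply]
      show _ = (t ≫ g) P'
      rw [show t ≫ g = h by rw [Category.assoc, pullback.condition, ← Category.assoc, hσ, Category.id_comp]]
    have hh' : φ P' = IsLocalRing.closedPoint O := by
      apply (X.fromSpecStalk (g w)).isEmbedding.injective
      show h P' = _
      rw [hh, Scheme.fromSpecStalk_closedPoint]
    have hle : IsLocalRing.maximalIdeal R ≤ P'.asIdeal := by
      rw [← Groth.Agent.S0538.result O R, Ideal.map_le_iff_le_comap]
      exact (congrArg PrimeSpectrum.asIdeal hh').ge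
    exact PrimeSpectrum.ext ((IsLocalRing.maximalIdeal.isMaximal R).eq_of_le P'.isPrime.ne_top hle).symm
  have himg : t '' ((FEt.puncturedSpec R : (Spec (CommRingCat.of R)).Opens) : Set (Spec (CommRingCat.of R))) = {z | z ⤳ w ∧ z ≠ w} := by
    ext z'
    constructor
    · rintro ⟨P', hP', rfl⟩
      refine ⟨?_, hne P' hP'⟩
      have := (IsLocalRing.specializes_closedPoint (R := R) P').map t.continuous
      rwa [htcl] at this
    · rintro ⟨hz', hz''⟩
      obtain ⟨P', -, hP'⟩ := (Flat.generalizingMap t) (htcl.symm ▸ hz')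
      exact ⟨P', fun e => hz'' (by rw [← hP', show P' = IsLocalRing.closedPoint R from e, htcl]), hP'⟩
  rw [← himg]
  refine IsPreconnected.image ?_ t t.continuous.continuousOn
  have hp : _root_.IsPreconnected (Set.range (FEt.puncturedSpec R).ι) :=
    isPreconnected_range (FEt.puncturedSpec R).ι.continuous
  rwa [Scheme.Opens.range_ι] at hp

end Groth.Agent.ConnInf
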