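import Groth.Agent.ConnInf.Topo
import Groth.Agent.ConnInf.Local
import Groth.Agent.Pi1X.FEtFull
import Groth.Agent.AlgSpVal.DvrThrough
import Mathlib.AlgebraicGeometry.Morphisms.Finite

set_option autoImplicit false
set_option backward.isDefEq.respectTransparency false
set_option backward.isDefEq.respectTransparency.types false
universe u

open CategoryTheory CategoryTheory.Limits AlgebraicGeometry

namespace Groth.Agent.ConnInf

/-- Full faithfulness of restriction to a dense open connected at infinity. -/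
theorem restrict_fullyFaithful {X : Scheme.{u}} (U : X.Opens) (hU : Dense (U : Set X))
    (hgen : ∀ (W : FEt.Cat X) (C : Set ↥(pullback W.hom U.ι)), IsClopen C →
      ∀ w ∈ closure ((pullback.fst W.hom U.ι) '' C), ∃ c ∈ C, pullback.fst W.hom U.ι c ⤳ w)
    (hsh : ∀ x : X, x ∉ U → ∀ (R : Type u) [CommRing R] [IsLocalRing R] [Algebra (X.presheaf.stalk x) R]
      [IsLocalHom (algebraMap (X.presheaf.stalk x) R)] [Hensel.IsStrictHenselization (X.presheaf.stalk x) R],
      ConnectedSpace (FEt.puncturedSpec R : Scheme.{u})) :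
    (FEt.restrict U.ι).Full ∧ (FEt.restrict U.ι).Faithful := by
  have hC : ∀ C : Set X, IsClopen C → C.Nonempty → (C ∩ Set.range U.ι.base).Nonempty := fun C hC hne => by
    rw [Scheme.Opens.range_ι]
    exact hU.inter_open_nonempty C hC.2 hne
  refine ⟨Pi1X.restrict_full _ hC fun W C hWC => ?_, Pi1X.restrict_faithful _ hC⟩
  let g : W.left ⟶ X := W.hom
  haveI : IsFinite g := W.prop.1
  haveI : Etale g := W.prop.2
  let j := pullback.fst g U.ι
  have hrange : Set.range j = g ⁻¹' (U : Set X) := by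
    rw [Scheme.Pullback.range_fst, Scheme.Opens.range_ι]
  have hcov : closure (j '' C) ∪ closure (j '' Cᶜ) = Set.univ := by
    rw [← closure_union, ← Set.image_union, Set.union_compl_self, Set.image_univ, hrange]
    exact (hU.preimage g.isOpenMap).closure_eq
  have hdisj : Disjoint (closure (j '' C)) (closure (j '' Cᶜ)) := by
    refine disjoint_closure (j.isOpenEmbedding.isOpenMap _ hWC.2) (j.isOpenEmbedding.isOpenMap _ hWC.compl.2)
      (Set.disjoint_image_of_injective j.isOpenEmbedding.injective disjoint_compl_right)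
      (fun w hw => ?_) (fun w hw => ?_) hcov fun w hw => ?_
    · obtain ⟨c, hc, hc'⟩ := hgen W C hWC w hw
      exact ⟨_, ⟨c, hc, rfl⟩, hc'⟩
    · obtain ⟨c, hc, hc'⟩ := hgen W Cᶜ hWC.compl w hw
      exact ⟨_, ⟨c, hc, rfl⟩, hc'⟩
    · refine isPreconnected_punctured g w (hsh (g w) fun h => hw ?_)
      obtain ⟨c, hc⟩ : w ∈ Set.range j := by rw [hrange]; exact h
      by_cases hcC : c ∈ C
      · exact Or.inl ⟨c, hcC, hc⟩
      · exact Or.inr ⟨c, hcC, hc⟩
  refine ⟨closure (j '' C), ⟨isClosed_closure, ?_⟩, ?_⟩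
  · rw [← isClosed_compl_iff, show (closure (j '' C))ᶜ = closure (j '' Cᶜ) from ?_]
    · exact isClosed_closure
    · exact (IsCompl.compl_eq ⟨hdisj, codisjoint_iff.2 hcov⟩)
  · ext c
    refine ⟨fun hc => ?_, fun hc => subset_closure ⟨c, hc, rfl⟩⟩
    by_contra hn
    exact Set.disjoint_left.1 hdisj hc (subset_closure ⟨c, hn, rfl⟩)

theorem hgen_of_quasiCompact {W P : Scheme.{u}} (j : P ⟶ W) [IsOpenImmersion j] [QuasiCompact j]
    (C : Set P) (hC : IsClopen C) (w : W) (hw : w ∈ closure (j '' C)) : ∃ c ∈ C, j c ⤳ w := by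
  obtain ⟨V, hV, hwV, -⟩ := exists_isAffineOpen_mem_and_subset (x := w) (U := ⊤) trivial
  haveI : IsAffine V := hV
  let O : P.Opens := ⟨C ∩ (j ⁻¹ᵁ V : Set P), hC.2.inter (j ⁻¹ᵁ V).2⟩
  haveI : CompactSpace (O : Scheme.{u}) := isCompact_iff_compactSpace.1
    ((QuasiCompact.isCompact_preimage _ V.2 hV.isCompact).inter_left hC.1)
  let f : (O : Scheme.{u}) ⟶ V := IsOpenImmersion.lift V.ι (O.ι ≫ j) (by
    rw [Scheme.Opens.range_ι]
    rintro _ ⟨x, rfl⟩
    exact x.2.2)
  have hf : ∀ x, (f x).1 = j x.1 := fun x => by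
    show (f ≫ V.ι) x = _
    rw [IsOpenImmersion.lift_fac]
    rfl
  have hv : (⟨w, hwV⟩ : V) ∈ closure (Set.range f) := by
    rw [closure_subtype]
    refine mem_closure_iff.2 fun o ho hwo => ?_
    obtain ⟨_, ⟨hzo, hzV⟩, c, hc, rfl⟩ := mem_closure_iff.1 hw (o ∩ V) (ho.inter V.2) ⟨hwo, hwV⟩
    exact ⟨j c, hzo, f ⟨c, hc, hzV⟩, ⟨⟨c, hc, hzV⟩, rfl⟩, hf _⟩
  obtain ⟨x, hx⟩ := AlgSpVal.exists_specializes_of_mem_closure_range f hv
  exact ⟨x.1, x.2.1, by rw [← hf]; exact hx.map continuous_subtype_val⟩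

theorem hgen_of_finite_irreducibleComponents {W X P : Scheme.{u}} (j : P ⟶ W) [IsOpenImmersion j]
    (g : W ⟶ X) [IsFinite g] [Etale g]
    (hirr : ∀ V : X.Opens, IsCompact (V : Set X) → (irreducibleComponents ↥V).Finite)
    (C : Set P) (hC : IsClopen C) (w : W) (hw : w ∈ closure (j '' C)) : ∃ c ∈ C, j c ⤳ w := by
  obtain ⟨V, hV, hwV, -⟩ := exists_isAffineOpen_mem_and_subset (x := w) (U := ⊤) trivial
  let O : X.Opens := ⟨g '' V, g.isOpenMap _ V.2⟩
  have hO := hirr O (hV.isCompact.image g.continuous)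
  haveI : QuasiSober ↥O := O.2.isOpenEmbedding_subtypeVal.quasiSober
  haveI : QuasiSober ↥V := V.2.isOpenEmbedding_subtypeVal.quasiSober
  -- maximal points of `V` are finite in number
  have hmax : {η : V | ∀ η' : V, η' ⤳ η → η' = η}.Finite := by
    have hmO : {γ : O | ∀ γ' : O, γ' ⤳ γ → γ' = γ}.Finite := by
      haveI := hO.to_subtype
      refine (Set.finite_range fun T : irreducibleComponents ↥O => (T.2.1).genericPoint).subset ?_
      intro γ hγ
      refine ⟨⟨irreducibleComponent γ, irreducibleComponent_mem_irreducibleComponents γ⟩, hγ _ ?_⟩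
      exact ((irreducibleComponent_mem_irreducibleComponents γ).1.isGenericPoint_genericPoint
        isClosed_irreducibleComponent).specializes mem_irreducibleComponent
    refine ((hmO.image fun γ : O => γ.1).biUnion fun x _ =>
      (g.finite_preimage_singleton x).preimage Subtype.val_injective.injOn).subset fun η hη => ?_
    refine Set.mem_iUnion₂.2 ⟨g η.1, ⟨⟨g η.1, η.1, η.2, rfl⟩, fun γ' hγ' => Subtype.ext ?_, rfl⟩, rfl⟩
    obtain ⟨η', hη', he⟩ := (Flat.generalizingMap g) (hγ'.map continuous_subtype_val)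
    have : (⟨η', hη'.mem_open V.2 η.2⟩ : V) = η :=
      hη _ (Topology.IsInducing.subtypeVal.specializes_iff.1 hη')
    rw [← he]
    exact congrArg (fun z : V => g z.1) this
  let A : Set V := Subtype.val ⁻¹' (j '' C)
  have hA : IsOpen A := (j.isOpenEmbedding.isOpenMap _ hC.2).preimage continuous_subtype_val
  have hwA : (⟨w, hwV⟩ : V) ∈ closure A := by
    rw [closure_subtype]
    refine mem_closure_iff.2 fun o ho hwo => ?_
    obtain ⟨z, ⟨hzo, hzV⟩, hz⟩ := mem_closure_iff.1 hw (o ∩ V) (ho.inter V.2) ⟨hwo, hwV⟩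
    exact ⟨z, hzo, ⟨z, hzV⟩, hz, rfl⟩
  have hsub : A ⊆ ⋃ η ∈ {η : V | (∀ η' : V, η' ⤳ η → η' = η) ∧ η ∈ A}, closure ({η} : Set V) := by
    intro a ha
    have hi := isIrreducible_irreducibleComponent (x := a)
    have hgen := hi.isGenericPoint_genericPoint isClosed_irreducibleComponent
    refine Set.mem_iUnion₂.2 ⟨hi.genericPoint, ⟨fun η' hη' => ?_, (hgen.specializes mem_irreducibleComponent).mem_open hA ha⟩,
      specializes_iff_mem_closure.1 (hgen.specializes mem_irreducibleComponent)⟩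
    have h2 : irreducibleComponent a ⊆ closure ({η'} : Set V) := by
      rw [← hgen.def]
      exact closure_minimal (Set.singleton_subset_iff.2 (specializes_iff_mem_closure.1 hη')) isClosed_closure
    have h3 := eq_irreducibleComponent isIrreducible_singleton.closure.isPreirreducible h2
    exact (hη'.antisymm (hgen.specializes (h3 ▸ subset_closure rfl))).eq
  have hfin : {η : V | (∀ η' : V, η' ⤳ η → η' = η) ∧ η ∈ A}.Finite := hmax.subset fun _ h => h.1
  have := closure_minimal hsub (hfin.isClosed_biUnion fun _ _ => isClosed_closure) hwA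
  obtain ⟨η, ⟨-, c, hc, hcη⟩, hηw⟩ := Set.mem_iUnion₂.1 this
  exact ⟨c, hc, by rw [hcη]; exact (specializes_iff_mem_closure.2 hηw).map continuous_subtype_val⟩

end Groth.Agent.ConnInf
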