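import Mathlib.Topology.Sober
import Mathlib.Topology.Irreducible
import Mathlib.Topology.Connected.Basic

set_option autoImplicit false
universe u

open Set

namespace Groth.Agent.ConnInf

variable {W : Type u} [TopologicalSpace W] [QuasiSober W] [T0Space W]

/-- Two disjoint open pieces of a dense open set have disjoint closures if every limit point of a piece
is a specialisation of one of its points and punctured generisation sets outside are connected. -/
theorem disjoint_closure {A B : Set W} (hA : IsOpen A) (hB : IsOpen B) (hAB : Disjoint A B)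
    (hgA : ∀ w ∈ closure A, ∃ c ∈ A, c ⤳ w) (hgB : ∀ w ∈ closure B, ∃ c ∈ B, c ⤳ w)
    (hcov : closure A ∪ closure B = univ)
    (hconn : ∀ w ∉ A ∪ B, IsPreconnected {z | z ⤳ w ∧ z ≠ w}) :
    Disjoint (closure A) (closure B) := by
  by_contra h
  obtain ⟨w₀, hw₀⟩ := Set.not_disjoint_iff_nonempty_inter.1 h
  let D := closure A ∩ closure B
  have hDc : IsClosed D := isClosed_closure.inter isClosed_closure
  let T : Set D := irreducibleComponent (⟨w₀, hw₀⟩ : D)
  have hTirr : IsIrreducible (((↑) : D → W) '' T) :=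
    isIrreducible_irreducibleComponent.image _ continuous_subtype_val.continuousOn
  have hTcl : IsClosed (((↑) : D → W) '' T) :=
    hDc.isClosedEmbedding_subtypeVal.isClosedMap _ isClosed_irreducibleComponent
  let x := hTirr.genericPoint
  have hxgen : IsGenericPoint x (((↑) : D → W) '' T) :=
    hTirr.isGenericPoint_genericPoint hTcl
  obtain ⟨xD, hxT, hxD⟩ := hxgen.mem
  have hx : x ∈ D := hxD ▸ xD.2
  have hxO : x ∉ A ∪ B := by
    rintro (hxA | hxB)
    · obtain ⟨c, hcB, hc⟩ := hgB x hx.2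
      exact Set.disjoint_left.1 hAB ((hc.mem_open hA hxA)) hcB
    · obtain ⟨c, hcA, hc⟩ := hgA x hx.1
      exact Set.disjoint_left.1 hAB hcA (hc.mem_open hB hxB)
  obtain ⟨a, haA, ha⟩ := hgA x hx.1
  obtain ⟨b, hbB, hb⟩ := hgB x hx.2
  have hne : ∀ z ∈ A ∪ B, z ≠ x := fun z hz he => hxO (he ▸ hz)
  obtain ⟨z, ⟨hzx, hzne⟩, hzD⟩ := isPreconnected_closed_iff.1 (hconn x hxO) (closure A) (closure B)
    isClosed_closure isClosed_closure (fun z _ => hcov ▸ mem_univ z)
    ⟨a, ⟨ha, hne a (Or.inl haA)⟩, subset_closure haA⟩ ⟨b, ⟨hb, hne b (Or.inr hbB)⟩, subset_closure hbB⟩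
  -- `z` lies in the same component, hence equals its generic point
  have hzcl : closure ({z} : Set W) ⊆ D := hDc.closure_subset_iff.2 (Set.singleton_subset_iff.2 hzD)
  have hirr : IsIrreducible (((↑) : D → W) ⁻¹' closure ({z} : Set W)) :=
    ⟨⟨⟨z, hzD⟩, subset_closure rfl⟩, fun u v hu hv ⟨p, hp, hpu⟩ ⟨q, hq, hqv⟩ => by
      obtain ⟨u', hu', rfl⟩ := isOpen_induced_iff.1 hu
      obtain ⟨v', hv', rfl⟩ := isOpen_induced_iff.1 hv
      have hz1 : z ∈ u' := (specializes_iff_mem_closure.2 hp).mem_open hu' hpu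
      have hz2 : z ∈ v' := (specializes_iff_mem_closure.2 hq).mem_open hv' hqv
      exact ⟨⟨z, hzD⟩, subset_closure rfl, hz1, hz2⟩⟩
  have hsub : T ⊆ ((↑) : D → W) ⁻¹' closure ({z} : Set W) := fun t ht =>
    specializes_iff_mem_closure.1 (hzx.trans (hxgen.specializes ⟨t, ht, rfl⟩))
  have hzT : (⟨z, hzD⟩ : D) ∈ T := by
    have := eq_irreducibleComponent hirr.isPreirreducible hsub
    rw [show T = irreducibleComponent (⟨w₀, hw₀⟩ : D) from rfl, ← this]
    exact subset_closure rfl
  exact hzne ((hxgen.specializes ⟨_, hzT, rfl⟩).antisymm hzx).eq.symm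

end Groth.Agent.ConnInf
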